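import Mathlib
import Cfsg.Agent.Char.Iso
import Cfsg.Agent.Char.ClassAlg
import Cfsg.Agent.Char.Galois

/-!
# Irreducible products of a faithful character with a Galois conjugate

If `χ` is faithful and `g ↦ χ g * χ (g ^ k)` is irreducible then every normal subgroup with
central derived group is central: for `k * m ≡ -1` the operator `∑ x ∈ A, ρ x ⊗ τ (x ^ m)` commutes
with the tensor product, so it is a scalar, and its traces forbid this.
-/

namespace Cfsg.Agent.CharProd

open Module TensorProduct ComplexConjugate Cfsg.Agent.Char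

variable {G : Type*} [Group G] [Fintype G]

/-- The twisted sum over a normal subset commutes with the tensor product and hence is scalar. -/
theorem sum_scalar {d : ℕ} (ρ τ : Representation ℂ G (Fin d → ℂ))
    (hirr : IsIrrCharacter G (fun g => ρ.character g * τ.character g)) (A : Subgroup G) [A.Normal]
    [Fintype A] (m : ℕ) :
    ∃ c : ℂ, ∑ x : A, TensorProduct.map (ρ x) (τ ((x : G) ^ m)) =
      c • (LinearMap.id : ((Fin d → ℂ) ⊗[ℂ] (Fin d → ℂ)) →ₗ[ℂ] _) := by
  obtain ⟨n, R, hR, hRc⟩ := hirr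
  obtain ⟨e, he⟩ := nonempty_equiv_of_character_eq (ρ.tprod τ) R
    (by rw [Representation.char_tensor, hRc]; rfl)
  set S : Module.End ℂ ((Fin d → ℂ) ⊗[ℂ] (Fin d → ℂ)) :=
    ∑ x : A, TensorProduct.map (ρ x) (τ ((x : G) ^ m)) with hS
  have hcomm : ∀ g, S * (ρ.tprod τ) g = (ρ.tprod τ) g * S := by
    intro g
    rw [hS, Finset.sum_mul, Finset.mul_sum]
    let φ : A ≃ A := (MulAut.conjNormal g : MulAut A).toEquiv
    refine (Fintype.sum_equiv φ _ _ fun x => ?_).symm
    show (ρ.tprod τ) g * TensorProduct.map (ρ x) (τ ((x : G) ^ m)) =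
      TensorProduct.map (ρ (φ x : G)) (τ ((φ x : G) ^ m)) * (ρ.tprod τ) g
    rw [show (φ x : G) = g * x * g⁻¹ from MulAut.conjNormal_apply g x, conj_pow,
      Representation.tprod_apply, ← TensorProduct.map_mul, ← TensorProduct.map_mul, ← map_mul,
      ← map_mul, ← map_mul, ← map_mul]
    simp [mul_assoc]
  obtain ⟨c, hc, -⟩ := commute_eq_scalar R hR (e.conj S) fun g => by
    refine LinearMap.ext fun v => ?_
    have h1 : ∀ w, R g (e w) = e ((ρ.tprod τ) g w) := fun w => (he g w).symm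
    have h2 : e.symm (R g v) = (ρ.tprod τ) g (e.symm v) := by
      apply e.injective
      rw [e.apply_symm_apply, he, e.apply_symm_apply]
    simp only [Module.End.mul_apply, LinearEquiv.conj_apply, LinearMap.comp_apply,
      LinearEquiv.coe_coe]
    rw [h2, h1]
    exact congrArg e (LinearMap.congr_fun (hcomm g) (e.symm v))
  refine ⟨c, LinearMap.ext fun w => e.injective ?_⟩
  have := LinearMap.congr_fun hc (e w)
  simpa [LinearEquiv.conj_apply] using this

/-- Traces of the twisted sum. -/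
theorem trace_sum_map {d : ℕ} (ρ τ : Representation ℂ G (Fin d → ℂ)) (A : Subgroup G) [Fintype A]
    (m : ℕ) (y : G) :
    LinearMap.trace ℂ _ ((∑ x : A, TensorProduct.map (ρ x) (τ ((x : G) ^ m))) *
        TensorProduct.map (ρ y) (τ (y ^ m))) =
      ∑ x : A, ρ.character ((x : G) * y) * τ.character ((x : G) ^ m * y ^ m) := by
  rw [Finset.sum_mul, map_sum]
  refine Finset.sum_congr rfl fun x _ => ?_
  rw [← TensorProduct.map_mul, ← map_mul, ← map_mul, LinearMap.trace_tensorProduct']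
  rfl

theorem exists_mul_eq_neg_one (k n : ℕ) (hn : n ≠ 0) (hk : k.Coprime n) :
    ∃ m : ℕ, n ∣ k * m + 1 := by
  have : NeZero n := ⟨hn⟩
  refine ⟨(-(ZMod.unitOfCoprime k hk)⁻¹ : ZMod n).val, ?_⟩
  rw [← ZMod.natCast_eq_zero_iff, Nat.cast_add, Nat.cast_mul, ZMod.natCast_zmod_val, Nat.cast_one,
    mul_neg, show (k : ZMod n) = (ZMod.unitOfCoprime k hk : (ZMod n)ˣ) from
      (ZMod.coe_unitOfCoprime k hk).symm, Units.mul_inv, neg_add_cancel]

/-- A normal subgroup with central derived group is central. -/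
theorem le_center (χ : G → ℂ) (hχ : IsIrrCharacter G χ) (hfaith : ∀ g : G, χ g = χ 1 → g = 1)
    (k : ℕ) (hk : Nat.Coprime k (Nat.card G))
    (hirr : IsIrrCharacter G (fun g => χ g * χ (g ^ k))) :
    ∀ A : Subgroup G, A.Normal → (∀ a ∈ A, ∀ b ∈ A, a⁻¹ * b⁻¹ * a * b ∈ Subgroup.center G) →
      A ≤ Subgroup.center G := by
  classical
  obtain ⟨d, ρ, hρ, hρc⟩ := hχ
  obtain ⟨d', τ, hτ, hτc⟩ := isIrr_comp_pow k hk (χ := χ) ⟨d, ρ, hρ, hρc⟩
  have hd : χ 1 = d := by rw [← hρc]; simp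
  have hd' : d' = d := by
    have h1 : τ.character 1 = χ 1 := by rw [hτc]; simp
    rw [hd] at h1
    simpa using h1
  subst d'
  have hd0 : (d : ℂ) ≠ 0 := hd ▸ IsIrr.one_ne_zero (χ := χ) ⟨d, ρ, hρ, hρc⟩
  obtain ⟨m, hm⟩ := exists_mul_eq_neg_one k (Nat.card G) Nat.card_pos.ne' hk
  have hinv : ∀ g : G, (g ^ m) ^ k = g⁻¹ := fun g => by
    apply eq_inv_of_mul_eq_one_left
    rw [← pow_mul, ← pow_succ, mul_comm]
    exact orderOf_dvd_iff_pow_eq_one.1 ((orderOf_dvd_natCard g).trans hm)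
  have hτv : ∀ g, τ.character (g ^ m) = conj (χ g) := fun g => by
    rw [hτc]
    show χ ((g ^ m) ^ k) = _
    rw [hinv, IsChar.inv_eq_conj ⟨d, ρ, hρc⟩]
  have hρv : ∀ g, ρ.character g = χ g := fun g => by rw [hρc]
  have hinj : ∀ g, ρ g = LinearMap.id → g = 1 := fun g hg => hfaith g (by
    rw [← hρv, (character_eq_finrank_iff ρ g).2 hg, Module.finrank_fin_fun, hd])
  have hnorm : ∀ g : G, ‖χ g‖ = d → g ∈ Subgroup.center G := fun g hg => by
    obtain ⟨ω, hω, -⟩ := scalar_of_norm_character_eq ρ g (by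
      rw [hρv, hg, Module.finrank_fin_fun])
    rw [Subgroup.mem_center_iff]
    intro h
    rw [← mul_inv_eq_one]
    apply hinj
    rw [mul_inv_rev, map_mul, map_mul, map_mul, hω]
    have h1 : ρ g⁻¹ * ρ g = 1 := by rw [← map_mul, inv_mul_cancel, map_one]
    have h2 : ρ h * ρ h⁻¹ = 1 := by rw [← map_mul, mul_inv_cancel, map_one]
    rw [hω] at h1
    calc ρ h * (ω • LinearMap.id) * (ρ h⁻¹ * ρ g⁻¹)
        = ω • (ρ h * ρ h⁻¹ * ρ g⁻¹) := by
          rw [mul_smul_comm, smul_mul_assoc]; rfl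
      _ = ρ g⁻¹ * (ω • LinearMap.id) := by rw [h2, one_mul, mul_smul_comm]; rfl
      _ = LinearMap.id := h1
  have hcenter : ∀ z ∈ Subgroup.center G, ‖χ z‖ = d := fun z hz => by
    obtain ⟨c, hc, -⟩ := commute_eq_scalar ρ hρ (ρ z) fun g => by
      rw [← map_mul, ← map_mul, Subgroup.mem_center_iff.1 hz g]
    rw [← hρv, (norm_character_eq_iff ρ z).2 ⟨c, hc⟩, Module.finrank_fin_fun]
  -- the abelian case
  have habel : ∀ A : Subgroup G, A.Normal → (∀ a ∈ A, ∀ b ∈ A, a * b = b * a) →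
      A ≤ Subgroup.center G := by
    intro A hA hab
    obtain ⟨c, hc⟩ := sum_scalar ρ τ (by rw [hρc, hτc]; exact hirr) A m
    set S : Module.End ℂ ((Fin d → ℂ) ⊗[ℂ] (Fin d → ℂ)) :=
      ∑ x : A, TensorProduct.map (ρ x) (τ ((x : G) ^ m)) with hS
    have hSS : S * S = (Fintype.card A : ℂ) • S := by
      conv_lhs => rw [hS, Finset.sum_mul]
      rw [Finset.sum_congr rfl fun (a : A) _ => show
        TensorProduct.map (ρ a) (τ ((a : G) ^ m)) * S = S by
          rw [hS, Finset.mul_sum]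
          refine Fintype.sum_equiv (Equiv.mulLeft a) _ _ fun b => ?_
          rw [← TensorProduct.map_mul, ← map_mul, ← map_mul,
            ← (show Commute (a : G) b from hab a a.2 b b.2).mul_pow]
          rfl, Finset.sum_const, Finset.card_univ, Nat.cast_smul_eq_nsmul]
    have htr : LinearMap.trace ℂ _ S = ∑ x : A, ((‖χ x‖ : ℂ)) ^ 2 := by
      have h1 := trace_sum_map ρ τ A m 1
      rw [one_pow, map_one, map_one, TensorProduct.map_one, mul_one, ← hS] at h1
      rw [h1]
      refine Finset.sum_congr rfl fun x _ => ?_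
      rw [mul_one, mul_one, hρv, hτv, Complex.mul_conj, Complex.normSq_eq_norm_sq]
      push_cast
      rfl
    rw [hc, map_smul, LinearMap.trace_id, Module.finrank_tensorProduct, Module.finrank_fin_fun,
      smul_eq_mul] at htr
    have hpos : (∑ x : A, ((‖χ x‖ : ℂ)) ^ 2) ≠ 0 := by
      have h1 : 0 < ∑ x : A, ‖χ x‖ ^ 2 := by
        refine lt_of_lt_of_le ?_ (Finset.single_le_sum (fun (x : A) _ => sq_nonneg ‖χ (x : G)‖)
          (Finset.mem_univ (1 : A)))
        have h2 : ‖χ ((1 : A) : G)‖ ≠ 0 := by simpa [hd] using hd0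
        positivity
      exact_mod_cast h1.ne'
    have hcA : c = Fintype.card A := by
      rw [hc, smul_mul_smul_comm, smul_smul, show (LinearMap.id : ((Fin d → ℂ) ⊗[ℂ] (Fin d → ℂ))
        →ₗ[ℂ] _) * LinearMap.id = LinearMap.id from rfl] at hSS
      have h1 := congrArg (LinearMap.trace ℂ _) hSS
      rw [map_smul, map_smul, LinearMap.trace_id, Module.finrank_tensorProduct,
        Module.finrank_fin_fun, smul_eq_mul, smul_eq_mul] at h1
      have h2 : c ≠ 0 := fun h => hpos (by rw [← htr, h, zero_mul])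
      have h3 : ((d * d : ℕ) : ℂ) ≠ 0 := by push_cast; exact mul_ne_zero hd0 hd0
      exact mul_right_cancel₀ h2 (mul_right_cancel₀ h3 h1)
    have hsum : ∑ x : A, ‖χ x‖ ^ 2 = ∑ _x : A, (d : ℝ) ^ 2 := by
      rw [Finset.sum_const, Finset.card_univ, nsmul_eq_mul]
      apply Complex.ofReal_injective
      push_cast
      rw [← htr, hcA]
      push_cast
      ring
    have hle : ∀ x : A, ‖χ x‖ ≤ d := fun x => by
      rw [← hρv]
      simpa using norm_character_le ρ (x : G)
    intro a ha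
    refine hnorm a ?_
    have := (Finset.sum_eq_sum_iff_of_le fun x _ => pow_le_pow_left₀ (norm_nonneg _) (hle x) 2).1
      hsum ⟨a, ha⟩ (Finset.mem_univ _)
    exact (pow_left_inj₀ (norm_nonneg _) (Nat.cast_nonneg _) two_ne_zero).1 this
  intro A hA hcl
  by_cases hab : ∀ a ∈ A, ∀ b ∈ A, a * b = b * a
  · exact habel A hA hab
  exfalso
  have hZA : ∀ x ∈ A, x ∉ Subgroup.center G → χ x = 0 := by
    intro x hx hxZ
    have hex : ∃ b ∈ A, x * b ≠ b * x := by
      by_contra h
      push Not at h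
      apply hxZ
      have hn : (A ⊓ Subgroup.centralizer (A : Set G)).Normal := inferInstance
      refine habel (A ⊓ Subgroup.centralizer (A : Set G)) hn
        (fun a ha b hb => (Subgroup.mem_centralizer_iff.1 hb.2 a ha.1)) ⟨hx, ?_⟩
      exact Subgroup.mem_centralizer_iff.2 fun b hb => (h b hb).symm
    obtain ⟨b, hb, hne⟩ := hex
    set z := x⁻¹ * b⁻¹ * x * b with hz
    have hzc : z ∈ Subgroup.center G := hcl x hx b hb
    have hz1 : z ≠ 1 := fun h => hne (by
      have h1 : b * x * z = b * x := by rw [h, mul_one]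
      rw [hz] at h1
      simpa [mul_assoc] using h1)
    obtain ⟨ω, hω, -⟩ := scalar_of_norm_character_eq ρ z (by
      rw [hρv, hcenter z hzc, Module.finrank_fin_fun])
    have hω1 : ω ≠ 1 := fun h => hz1 (hinj z (by rw [hω, h, one_smul]))
    have hconj : χ (x * z) = χ x := by
      rw [show x * z = b⁻¹ * x * b⁻¹⁻¹ by simp [hz, mul_assoc]]
      exact (isClassFunction_of_isCharacter ⟨d, ρ, hρc⟩) x b⁻¹
    have hmul : χ (x * z) = ω * χ x := by
      rw [← hρv, ← hρv]
      show LinearMap.trace ℂ _ (ρ (x * z)) = ω * LinearMap.trace ℂ _ (ρ x)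
      rw [map_mul, hω, mul_smul_comm, map_smul, smul_eq_mul]
      rfl
    rw [hconj] at hmul
    have : (ω - 1) * χ x = 0 := by linear_combination -hmul
    exact (mul_eq_zero.1 this).resolve_left (sub_ne_zero.2 hω1)
  obtain ⟨y, hy, hyZ⟩ : ∃ y ∈ A, y ∉ Subgroup.center G := by
    by_contra h
    push Not at h
    exact hab fun a ha b hb => Subgroup.mem_center_iff.1 (h b hb) a
  obtain ⟨c, hc⟩ := sum_scalar ρ τ (by rw [hρc, hτc]; exact hirr) A m
  have h1 := trace_sum_map ρ τ A m y⁻¹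
  rw [hc, smul_mul_assoc, map_smul,
    show (LinearMap.id : ((Fin d → ℂ) ⊗[ℂ] (Fin d → ℂ)) →ₗ[ℂ] _) *
      TensorProduct.map (ρ y⁻¹) (τ (y⁻¹ ^ m)) = TensorProduct.map (ρ y⁻¹) (τ (y⁻¹ ^ m)) from rfl,
    LinearMap.trace_tensorProduct'] at h1
  have h2 : LinearMap.trace ℂ _ (ρ y⁻¹) = 0 := by
    show ρ.character y⁻¹ = 0
    rw [hρv]
    exact hZA _ (A.inv_mem hy) fun h => hyZ (by simpa using h)
  rw [h2, zero_mul, smul_zero] at h1
  have h3 : ∀ x : A, ρ.character ((x : G) * y⁻¹) * τ.character ((x : G) ^ m * y⁻¹ ^ m) =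
      if (x : G) * y⁻¹ ∈ Subgroup.center G then (d : ℂ) ^ 2 else 0 := by
    intro x
    split_ifs with h
    · have hcm : Commute (x : G) y⁻¹ := by
        have h4 := Subgroup.mem_center_iff.1 h y
        have h5 : Commute (x : G) y := by
          have h6 : y * x * y⁻¹ = x * y⁻¹ * y := by rw [mul_assoc]; exact h4
          rw [inv_mul_cancel_right] at h6
          exact (mul_inv_eq_iff_eq_mul.1 h6).symm
        exact h5.inv_right
      rw [← hcm.mul_pow, hρv, hτv, Complex.mul_conj, Complex.normSq_eq_norm_sq, hcenter _ h]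
      push_cast
      rfl
    · rw [hρv, hZA _ (A.mul_mem x.2 (A.inv_mem hy)) h, zero_mul]
  simp only [h3] at h1
  rw [← Finset.sum_filter, Finset.sum_const, nsmul_eq_mul] at h1
  refine mul_ne_zero ?_ (pow_ne_zero 2 hd0) h1.symm
  refine Nat.cast_ne_zero.2 (Finset.card_ne_zero_of_mem (a := (⟨y, hy⟩ : A)) ?_)
  simp

end Cfsg.Agent.CharProd
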